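import Cfsg.Agent.Lib.Recognition.ReeCube.Tensor
import Cfsg.Agent.S1159

/-!
Groups of unbounded order with the element orders of the cube of a small Ree group.
-/

set_option autoImplicit false

namespace CfsgLib.Recognition.ReeCube

open Finset
open scoped Matrix

/-- The action of a group of matrices on tuples of vectors. -/
noncomputable def tupAct {R ι : Type} [CommRing R] [Fintype ι] [DecidableEq ι] (G : Subgroup (Matrix ι ι R)ˣ)
    (k : ℕ) : ↥G →* MulAut (Multiplicative (Fin k → ι → R)) :=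
  MonoidHom.mk'
    (fun g =>
      { toFun := fun v => Multiplicative.ofAdd fun j => Units.val (g : (Matrix ι ι R)ˣ) *ᵥ v.toAdd j
        invFun := fun v => Multiplicative.ofAdd fun j => Units.val ((g⁻¹ : ↥G) : (Matrix ι ι R)ˣ) *ᵥ v.toAdd j
        left_inv := fun v => by
          refine Multiplicative.toAdd.injective (funext fun j => ?_)
          show _ *ᵥ (_ *ᵥ _) = _
          rw [Matrix.mulVec_mulVec, ← Units.val_mul, ← Subgroup.coe_mul, inv_mul_cancel, Subgroup.coe_one,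
            Units.val_one, Matrix.one_mulVec]
        right_inv := fun v => by
          refine Multiplicative.toAdd.injective (funext fun j => ?_)
          show _ *ᵥ (_ *ᵥ _) = _
          rw [Matrix.mulVec_mulVec, ← Units.val_mul, ← Subgroup.coe_mul, mul_inv_cancel, Subgroup.coe_one,
            Units.val_one, Matrix.one_mulVec]
        map_mul' := fun v w => by
          refine Multiplicative.toAdd.injective (funext fun j => ?_)
          exact Matrix.mulVec_add _ _ _ })
    fun g h => MulEquiv.ext fun v => Multiplicative.toAdd.injective (funext fun j =>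
      (Matrix.mulVec_mulVec _ _ _).symm)

theorem tup_pow_left {R ι : Type} [CommRing R] [Fintype ι] [DecidableEq ι] (G : Subgroup (Matrix ι ι R)ˣ)
    (k : ℕ) (x : SemidirectProduct (Multiplicative (Fin k → ι → R)) ↥G (tupAct G k)) (n : ℕ) (j : Fin k) :
    (x ^ n).left.toAdd j =
      (∑ i ∈ range n, (Units.val (x.right : (Matrix ι ι R)ˣ)) ^ i) *ᵥ x.left.toAdd j := by
  induction n with
  | zero => simp
  | succ n ih =>
    rw [pow_succ, SemidirectProduct.mul_left, Finset.sum_range_succ, Matrix.add_mulVec, ← ih]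
    show (x ^ n).left.toAdd j + Units.val ((x ^ n).right : (Matrix ι ι R)ˣ) *ᵥ x.left.toAdd j = _
    rw [show (x ^ n).right = x.right ^ n from map_pow (SemidirectProduct.rightHom) x n, SubgroupClass.coe_pow,
      Units.val_pow_eq_pow_val]

variable (K : Type) [Field K] [Fintype K] [CharP K 3]

/-- The extension of the power of the module by the group. -/
abbrev Ext (k : ℕ) : Type :=
  SemidirectProduct (Multiplicative (Fin k → I4 → K)) ↥(G4 K) (tupAct (G4 K) k)

instance ext_finite (k : ℕ) : Finite (Ext K k) := Finite.of_equiv _ SemidirectProduct.equivProd.symm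

variable {K}
variable {m : ℕ}

/-- The element orders of the extension. -/
theorem ext_orders (hK : Fintype.card K = 3 ^ (2 * m + 1)) (hm : 1 ≤ m) {k : ℕ} (hk : 1 ≤ k) (d : ℕ) :
    (∃ x : Ext K k, orderOf x = d) ↔ ∃ n ∈ bounds (Fintype.card K), d ∣ n := by
  classical
  constructor
  · rintro ⟨x, rfl⟩
    obtain ⟨y, hy⟩ := x.right.2
    have hu : Units.val (x.right : (Matrix I4 I4 K)ˣ) = preHom K (y.1, y.2) := by
      rw [← hy]; rfl
    obtain ⟨n, hn, h1, h0⟩ := norm_cases hK y.1 y.2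
    refine ⟨n, hn, orderOf_dvd_of_pow_eq_one (SemidirectProduct.ext ?_ ?_)⟩
    · refine Multiplicative.toAdd.injective (funext fun j => ?_)
      rw [tup_pow_left (G4 K) k x n j, hu, h0, Matrix.zero_mulVec]
      rfl
    · rw [show (x ^ n).right = x.right ^ n from map_pow (SemidirectProduct.rightHom) x n]
      refine Subtype.ext (Units.ext ?_)
      rw [SubgroupClass.coe_pow, Units.val_pow_eq_pow_val, hu, h1]
      rfl
  · rintro ⟨n, hn, hd⟩
    suffices h : ∃ x : Ext K k, orderOf x = n by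
      obtain ⟨x, rfl⟩ := h
      have hx := (orderOf_pos x).ne'
      refine ⟨x ^ (orderOf x / d), ?_⟩
      rw [orderOf_pow' _ (Nat.div_ne_zero_iff.mpr ⟨fun e => hx (Nat.eq_zero_of_zero_dvd (e ▸ hd)),
        Nat.le_of_dvd (Nat.pos_of_ne_zero hx) hd⟩),
        Nat.gcd_eq_right (Nat.div_dvd_of_dvd hd), Nat.div_div_self hd hx]
    have hwit : ∀ n, (∃ y, orderOf (preHom K y) = n) → ∃ x : Ext K k, orderOf x = n := by
      rintro _ ⟨y, rfl⟩
      refine ⟨SemidirectProduct.inr ⟨(preHom K).toHomUnits y, y, rfl⟩, ?_⟩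
      rw [orderOf_injective _ SemidirectProduct.inr_injective, ← Subgroup.orderOf_coe, ← orderOf_units]
      rfl
    simp only [bounds, List.mem_cons, List.not_mem_nil, or_false] at hn
    rcases hn with rfl | rfl | rfl | rfl
    · exact hwit _ (exists_six hK)
    · set y : Sgn K × Matrix.SpecialLinearGroup (Fin 2) K := (1, SLTwoElements.transv K) with hy
      let v : I4 → K := Pi.single (1, 1) 1
      let x : Ext K k := ⟨Multiplicative.ofAdd fun _ => v, ⟨(preHom K).toHomUnits y, y, rfl⟩⟩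
      have hu : Units.val (x.right : (Matrix I4 I4 K)ˣ) = preHom K y := rfl
      have hpr : ∀ (z : Ext K k) (n : ℕ), (z ^ n).right = z.right ^ n := fun z n =>
        map_pow (SemidirectProduct.rightHom) z n
      have hy3 : y ^ 3 = 1 := by
        refine Prod.ext (one_pow 3) (Subtype.ext ?_)
        show ((SLTwoElements.transv K ^ 3 : Matrix.SpecialLinearGroup (Fin 2) K) : Matrix (Fin 2) (Fin 2) K) = _
        rw [SLTwoElements.transv_pow, show ((3 : ℕ) : K) = 0 from CharP.cast_eq_zero K 3, ← Matrix.one_fin_two]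
        rfl
      have hu3 : preHom K y ^ 3 = 1 := by rw [← map_pow, hy3, map_one]
      have h9 : x ^ (3 ^ 2) = 1 := by
        refine SemidirectProduct.ext ?_ ?_
        · refine Multiplicative.toAdd.injective (funext fun j => ?_)
          rw [tup_pow_left (G4 K) k x _ j, hu, show 3 ^ 2 = 3 * 3 from rfl, geom_three (K := K) _ 3 hu3,
            Matrix.zero_mulVec]
          rfl
        · rw [hpr x]
          refine Subtype.ext (Units.ext ?_)
          rw [SubgroupClass.coe_pow, Units.val_pow_eq_pow_val, hu, show 3 ^ 2 = 3 * 3 from rfl, pow_mul, hu3,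
            one_pow]
          rfl
      have h3 : ¬ x ^ (3 ^ 1) = 1 := by
        intro h
        have e := congrArg (fun z : Ext K k => z.left.toAdd ⟨0, hk⟩ ((0, 0) : I4)) h
        simp only [SemidirectProduct.one_left, toAdd_one, Pi.zero_apply] at e
        rw [tup_pow_left (G4 K) k x _ _, hu] at e
        change ((∑ i ∈ range (3 ^ 1), preHom K y ^ i) *ᵥ Pi.single (1, 1) 1) (0, 0) = 0 at e
        rw [Matrix.mulVec_single_one, Matrix.col_apply, Matrix.sum_apply] at e
        have hT : ∀ i : ℕ, (preHom K y ^ i) (0, 0) (1, 1) = (i : K) * (i : K) ^ 9 := fun i => by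
          rw [← map_pow, hy, Prod.pow_mk, one_pow]
          show (((1 : Sgn K) : Kˣ) : K) * (((SLTwoElements.transv K ^ i : Matrix.SpecialLinearGroup (Fin 2) K) :
            Matrix (Fin 2) (Fin 2) K) 0 1 * tw K (((SLTwoElements.transv K ^ i :
              Matrix.SpecialLinearGroup (Fin 2) K) : Matrix (Fin 2) (Fin 2) K) 0 1)) = _
          rw [SLTwoElements.transv_pow, tw_apply]
          simp
        simp only [pow_one, sum_range_succ, sum_range_zero, hT] at e
        norm_num at e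
        have h' : ((1025 : ℕ) : K) = 0 := by exact_mod_cast e
        rw [CharP.cast_eq_zero_iff K 3] at h'
        norm_num at h'
      exact ⟨x, orderOf_eq_prime_pow h3 h9⟩
    · exact hwit _ (exists_minus hK)
    · exact hwit _ (exists_plus hK hm)

theorem lcm_cases {D4 D6 : ℕ → Prop} (E F : ℕ) (h1 : D4 1) (hE : ∀ d, d ∣ E → D6 d)
    (hF : ∀ d, d ∣ F → D6 d) (h : ∀ d, D6 d → D4 d ∨ d ∣ E ∨ d ∣ F) {a b c : ℕ} (ha : D6 a) (hb : D6 b)
    (hc : D6 c) :
    ∃ a' b' c', D6 a' ∧ D6 b' ∧ D4 c' ∧ Nat.lcm a' (Nat.lcm b' c') = Nat.lcm a (Nat.lcm b c) := by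
  rcases h c hc with hc' | hc'
  · exact ⟨a, b, c, ha, hb, hc', rfl⟩
  rcases h b hb with hb' | hb'
  · exact ⟨a, c, b, ha, hc, hb', by rw [Nat.lcm_comm c b]⟩
  rcases h a ha with ha' | ha'
  · exact ⟨b, c, a, hb, hc, ha', by rw [← Nat.lcm_assoc, Nat.lcm_comm]⟩
  -- two of them divide one of `E`, `F`
  have hab : ∀ X x y z, (∀ d, d ∣ X → D6 d) → x ∣ X → y ∣ X → D6 z →
      ∃ a' b' c', D6 a' ∧ D6 b' ∧ D4 c' ∧ Nat.lcm a' (Nat.lcm b' c') = Nat.lcm (Nat.lcm x y) z :=
    fun X x y z hX hx hy hz => ⟨_, z, 1, hX _ (Nat.lcm_dvd hx hy), hz, h1, by rw [Nat.lcm_one_right]⟩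
  have e1 : Nat.lcm a (Nat.lcm b c) = Nat.lcm (Nat.lcm a b) c := (Nat.lcm_assoc a b c).symm
  have e2 : Nat.lcm a (Nat.lcm b c) = Nat.lcm (Nat.lcm a c) b := by rw [Nat.lcm_assoc, Nat.lcm_comm c b]
  have e3 : Nat.lcm a (Nat.lcm b c) = Nat.lcm (Nat.lcm b c) a := Nat.lcm_comm _ _
  rcases ha' with ha' | ha' <;> rcases hb' with hb' | hb' <;> rcases hc' with hc' | hc'
  all_goals first
    | (rw [e1]; exact hab E a b c hE ha' hb' hc)
    | (rw [e1]; exact hab F a b c hF ha' hb' hc)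
    | (rw [e2]; exact hab E a c b hE ha' hc' hb)
    | (rw [e2]; exact hab F a c b hF ha' hc' hb)
    | (rw [e3]; exact hab E b c a hE hb' hc' ha)
    | (rw [e3]; exact hab F b c a hF hb' hc' ha)

theorem range_orderOf_triple (A B C : Type*) [Group A] [Group B] [Group C] :
    Set.range (orderOf : A × B × C → ℕ) = {d | ∃ a b c, (∃ x : A, orderOf x = a) ∧ (∃ x : B, orderOf x = b) ∧
      (∃ x : C, orderOf x = c) ∧ Nat.lcm a (Nat.lcm b c) = d} := by
  ext d
  constructor
  · rintro ⟨⟨x, y, z⟩, rfl⟩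
    exact ⟨_, _, _, ⟨x, rfl⟩, ⟨y, rfl⟩, ⟨z, rfl⟩, by rw [Prod.orderOf, Prod.orderOf]⟩
  · rintro ⟨_, _, _, ⟨x, rfl⟩, ⟨y, rfl⟩, ⟨z, rfl⟩, rfl⟩
    exact ⟨(x, y, z), by rw [Prod.orderOf, Prod.orderOf]⟩

theorem cube_unrecognisable {L : Type*} [Field L] [Fintype L] (hm : 1 ≤ m)
    (hL : Fintype.card L = 3 ^ (2 * m + 1)) (N : ℕ) :
    ∃ (H : Type) (_ : Group H) (_ : Fintype H), N < Fintype.card H ∧
      Set.range (orderOf : H → ℕ) = Set.range (orderOf : ↥(Cfsg.Lie.twistedG2 L (3 ^ m)) ×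
        ↥(Cfsg.Lie.twistedG2 L (3 ^ m)) × ↥(Cfsg.Lie.twistedG2 L (3 ^ m)) → ℕ) := by
  classical
  let K := GaloisField 3 (2 * m + 1)
  let _ : Fintype K := Fintype.ofFinite K
  have hK : Fintype.card K = 3 ^ (2 * m + 1) := by
    rw [← Nat.card_eq_fintype_card]
    exact GaloisField.card 3 _ (by omega)
  let H := ↥(Cfsg.Lie.twistedG2 K (3 ^ m)) × ↥(Cfsg.Lie.twistedG2 K (3 ^ m)) × Ext K (N + 1)
  let _ : Fintype H := Fintype.ofFinite H
  refine ⟨H, inferInstance, inferInstance, ?_, ?_⟩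
  · rw [← Nat.card_eq_fintype_card]
    refine lt_of_lt_of_le ?_ ((Nat.le_mul_of_pos_left _ Nat.card_pos).trans_eq (Nat.card_prod _ _).symm)
    refine lt_of_lt_of_le ?_ ((Nat.le_mul_of_pos_left _ Nat.card_pos).trans_eq (Nat.card_prod _ _).symm)
    rw [SemidirectProduct.card]
    refine lt_of_lt_of_le ?_ (Nat.le_mul_of_pos_right _ Nat.card_pos)
    rw [Nat.card_congr Multiplicative.toAdd, Nat.card_eq_fintype_card, Fintype.card_fun, Fintype.card_fin]
    have h2 : 1 < Fintype.card (I4 → K) := Fintype.one_lt_card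
    exact lt_trans (Nat.lt_succ_self N) (Nat.lt_pow_self h2)
  have hX := ext_orders hK hm (k := N + 1) (by omega)
  have hR := fun d => Cfsg.Agent.S1159.result (K := K) hm hK d
  have hR' := fun d => Cfsg.Agent.S1159.result (K := L) hm hL d
  rw [range_orderOf_triple, range_orderOf_triple]
  simp only [hR, hR', hX, hK]
  simp only [bounds, List.mem_cons, List.not_mem_nil, or_false, exists_eq_or_imp, exists_eq_left]
  ext d
  constructor
  · rintro ⟨a, b, c, ha, hb, hc, rfl⟩
    refine ⟨a, b, c, ha, hb, ?_, rfl⟩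
    rcases hc with h | h | h | h
    exacts [Or.inl h, Or.inr (Or.inl h), Or.inr (Or.inr (Or.inl h)), Or.inr (Or.inr (Or.inr (Or.inl h)))]
  · rintro ⟨a, b, c, ha, hb, hc, rfl⟩
    refine lcm_cases (D4 := fun d => d ∣ 6 ∨ d ∣ 9 ∨ d ∣ 3 ^ (2 * m + 1) - 1 ∨ d ∣ (3 ^ (2 * m + 1) + 1) / 2)
      (D6 := fun d => d ∣ 6 ∨ d ∣ 9 ∨ d ∣ 3 ^ (2 * m + 1) - 1 ∨ d ∣ (3 ^ (2 * m + 1) + 1) / 2 ∨
        d ∣ 3 ^ (2 * m + 1) - 3 ^ (m + 1) + 1 ∨ d ∣ 3 ^ (2 * m + 1) + 3 ^ (m + 1) + 1) _ _
      (Or.inl (one_dvd _)) (fun d h => Or.inr (Or.inr (Or.inr (Or.inr (Or.inl h)))))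
      (fun d h => Or.inr (Or.inr (Or.inr (Or.inr (Or.inr h))))) ?_ ha hb hc
    rintro d (h | h | h | h | h | h)
    exacts [Or.inl (Or.inl h), Or.inl (Or.inr (Or.inl h)), Or.inl (Or.inr (Or.inr (Or.inl h))),
        Or.inl (Or.inr (Or.inr (Or.inr h))), Or.inr (Or.inl h), Or.inr (Or.inr h)]

end CfsgLib.Recognition.ReeCube
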