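import Cfsg.Agent.Lib.Recognition.TwistedTensor
import Cfsg.Agent.Lib.Recognition.SLTwoElements

/-!
The group `± (g ⊗ g^(9))`, `g` in `SL₂`, over a field with an odd power of three elements, and the element orders
of its extensions by powers of the module.
-/

set_option autoImplicit false

namespace CfsgLib.Recognition.ReeCube

open Matrix Finset
open scoped Kronecker
open CfsgLib.Recognition.TwistedTensor

/-- The index set of the module. -/
abbrev I4 : Type := Fin 2 × Fin 2

variable (K : Type) [Field K] [Fintype K] [CharP K 3]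

instance fact_three : Fact (Nat.Prime 3) := ⟨Nat.prime_three⟩

/-- The twist `x ↦ x ^ 9`. -/
noncomputable def tw : K →+* K := iterateFrobenius K 3 2

omit [Fintype K] in
theorem tw_apply (x : K) : tw K x = x ^ 9 := by simp [tw, iterateFrobenius_def]

/-- The twisted tensor square. -/
noncomputable def tensHom : Matrix.SpecialLinearGroup (Fin 2) K →* Matrix I4 I4 K where
  toFun g := (g : Matrix (Fin 2) (Fin 2) K) ⊗ₖ ((g : Matrix (Fin 2) (Fin 2) K).map (tw K))
  map_one' := by
    rw [Matrix.SpecialLinearGroup.coe_one, Matrix.map_one (tw K) (map_zero _) (map_one _), Matrix.one_kronecker_one]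
  map_mul' g h := by rw [Matrix.SpecialLinearGroup.coe_mul, Matrix.map_mul, Matrix.mul_kronecker_mul]

/-- The signs. -/
abbrev Sgn : Type := ↥(rootsOfUnity 2 K)

/-- The sign times the twisted tensor square. -/
noncomputable def preHom : Sgn K × Matrix.SpecialLinearGroup (Fin 2) K →* Matrix I4 I4 K where
  toFun x := (((x.1 : Kˣ) : K)) • tensHom K x.2
  map_one' := by simp
  map_mul' x y := by
    rw [Prod.snd_mul, map_mul, Matrix.smul_mul, Matrix.mul_smul, smul_smul, Prod.fst_mul, Subgroup.coe_mul,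
      Units.val_mul]

/-- The group. -/
noncomputable def G4 : Subgroup (Matrix I4 I4 K)ˣ := (preHom K).toHomUnits.range

/-- The four bounds on element orders. -/
def bounds (q : ℕ) : List ℕ := [6, 9, q - 1, (q + 1) / 2]

section Facts

variable {K}
variable {m : ℕ} (hK : Fintype.card K = 3 ^ (2 * m + 1))

omit [Fintype K] [CharP K 3] in
theorem sgn_cases (e : Sgn K) : ((e : Kˣ) : K) = 1 ∨ ((e : Kˣ) : K) = -1 := by
  have h := e.2
  rw [mem_rootsOfUnity, Units.ext_iff, Units.val_pow_eq_pow_val, Units.val_one, pow_two] at h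
  exact mul_self_eq_one_iff.mp h

omit [Fintype K] in
theorem geom_three {R : Type*} [Ring R] [Algebra K R] (x : R) (k : ℕ) (h : x ^ k = 1) :
    ∑ i ∈ range (k * 3), x ^ i = 0 := by
  have h3 : (3 : R) = 0 := by
    rw [show (3 : R) = algebraMap K R 3 from (map_ofNat _ 3).symm, show (3 : K) = ((3 : ℕ) : K) from rfl,
      CharP.cast_eq_zero, map_zero]
  rw [show k * 3 = k + (k + k) by ring, sum_range_add, sum_range_add]
  simp only [pow_add, h, one_mul]
  rw [show ∀ a : R, a + (a + a) = 3 * a from fun a => by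
    rw [show (3 : R) = 1 + 1 + 1 by norm_num, add_mul, add_mul, one_mul]; abel, h3, zero_mul]

include hK

omit [CharP K 3] in
theorem card_mod : 3 ≤ Fintype.card K ∧ Fintype.card K % 8 = 3 ∧ Fintype.card K % 5 ≠ 4 ∧
    Fintype.card K % 5 ≠ 1 := by
  rw [hK, pow_succ, pow_mul]
  refine ⟨?_, ?_, ?_, ?_⟩
  · have : 0 < (3 ^ 2) ^ m := by positivity
    omega
  · rw [Nat.mul_mod, Nat.pow_mod]; norm_num
  all_goals
    rw [Nat.mul_mod, Nat.pow_mod]
    rcases Nat.even_or_odd m with ⟨j, rfl⟩ | ⟨j, rfl⟩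
    · rw [← two_mul, pow_mul, Nat.pow_mod]; norm_num
    · rw [pow_succ, pow_mul, Nat.mul_mod, Nat.pow_mod]; norm_num [Nat.mul_mod, Nat.pow_mod]

theorem sign_pow_minus (e : Sgn K) : ((e : Kˣ) : K) ^ (Fintype.card K - 1) = 1 :=
  FiniteField.pow_card_sub_one_eq_one _ (Units.ne_zero _)

/-- Every element has a bound `n` with vanishing norm. -/
theorem norm_cases (e : Sgn K) (g : Matrix.SpecialLinearGroup (Fin 2) K) :
    ∃ n ∈ bounds (Fintype.card K), preHom K (e, g) ^ n = 1 ∧ ∑ i ∈ range n, preHom K (e, g) ^ i = 0 := by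
  classical
  set q := Fintype.card K with hq
  obtain ⟨h3q, h8, h54, h51⟩ := card_mod hK
  set M := preHom K (e, g) with hMdef
  set T := tensHom K g with hTdef
  have hM : M = (((e : Kˣ) : K)) • T := rfl
  have he2 : (((e : Kˣ) : K)) ^ 2 = 1 := by rcases sgn_cases e with h | h <;> rw [h] <;> ring
  have hTpow : ∀ n, ∀ δ : K, δ * δ = 1 → (g : Matrix (Fin 2) (Fin 2) K) ^ n = δ • 1 → T ^ n = 1 := by
    intro n δ hδ h
    rw [hTdef, ← map_pow]
    show ((g ^ n : Matrix.SpecialLinearGroup (Fin 2) K) : Matrix (Fin 2) (Fin 2) K) ⊗ₖ _ = _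
    rw [Matrix.SpecialLinearGroup.coe_pow, h]
    have hmap : (δ • (1 : Matrix (Fin 2) (Fin 2) K)).map (tw K) = δ • 1 := by
      have hd : tw K δ = δ := by
        rcases mul_self_eq_one_iff.mp hδ with rfl | rfl <;> simp
      ext i j
      simp [Matrix.one_apply, apply_ite (tw K), hd]
    rw [hmap, Matrix.smul_kronecker, Matrix.kronecker_smul, smul_smul, hδ, one_smul, Matrix.one_kronecker_one]
  have hsq : ∀ k, (M ^ k = 1 → ∑ i ∈ range (k * 3), M ^ i = 0) := fun k h => geom_three (K := K) M k h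
  rcases sl2_cases g with ⟨δ, hδ, hu⟩ | ⟨a, ha0, hne, -, haq, ⟨P, hP⟩, hpow⟩
  · have hδ2 : δ * δ = 1 := by rcases hδ with rfl | rfl <;> ring
    have hg3 : (g : Matrix (Fin 2) (Fin 2) K) ^ 3 = δ • 1 := by
      rw [pow_char_of_unipotent 3 _ δ hu, pow_succ, pow_two, hδ2, one_mul]
    have hT3 : T ^ 3 = 1 := hTpow 3 δ hδ2 hg3
    rcases sgn_cases e with he | he
    · refine ⟨9, by simp [bounds], ?_, ?_⟩
      · rw [hM, he, one_smul, show 9 = 3 * 3 from rfl, pow_mul, hT3, one_pow]
      · exact hsq 3 (by rw [hM, he, one_smul, hT3])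
    · refine ⟨6, by simp [bounds], ?_, ?_⟩
      · rw [hM, _root_.smul_pow, show 6 = 3 * 2 from rfl, pow_mul T, hT3, one_pow, he]
        norm_num
      · have hM3 : M ^ 3 = -1 := by
          rw [hM, _root_.smul_pow, hT3, he, show (-1 : K) ^ 3 = -1 by ring, neg_smul, one_smul]
        rw [show 6 = 3 + 3 from rfl, sum_range_add]
        simp only [pow_add M 3, hM3, neg_mul, one_mul, sum_neg_distrib, add_neg_cancel]
  · by_cases h2 : M ^ 2 = 1
    · refine ⟨6, by simp [bounds], ?_, hsq 2 h2⟩
      rw [show 6 = 2 * 3 from rfl, pow_mul, h2, one_pow]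
    have hwt : ∀ v, M *ᵥ v = v → v = 0 := by
      intro v hv
      by_contra hv0
      apply h2
      have hres : Resolves (M.map (algebraMap K (AlgebraicClosure K)))
          (fun k : Fin 2 × Fin 2 => P k.1 ⊗ₖ (P k.2).map (iterateFrobenius (AlgebraicClosure K) 3 2))
          (fun k => algebraMap K (AlgebraicClosure K) (((e : Kˣ) : K)) *
            (![a, a⁻¹] k.1 * iterateFrobenius (AlgebraicClosure K) 3 2 (![a, a⁻¹] k.2))) := by
        have h' := resolves_kron hP (resolves_map (iterateFrobenius (AlgebraicClosure K) 3 2) hP)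
        refine ⟨h'.1, fun k => ?_⟩
        have hmap : M.map (algebraMap K (AlgebraicClosure K)) = algebraMap K (AlgebraicClosure K) ((e : Kˣ) : K) •
            (((g : Matrix (Fin 2) (Fin 2) K).map (algebraMap K (AlgebraicClosure K))) ⊗ₖ
              ((g : Matrix (Fin 2) (Fin 2) K).map (algebraMap K (AlgebraicClosure K))).map
                (iterateFrobenius (AlgebraicClosure K) 3 2)) := by
          ext ⟨i, i'⟩ ⟨j, j'⟩
          rw [hM, hTdef]
          show algebraMap K (AlgebraicClosure K) (((e : Kˣ) : K) *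
            ((g : Matrix (Fin 2) (Fin 2) K) i j * tw K ((g : Matrix (Fin 2) (Fin 2) K) i' j'))) = _
          simp [tw_apply, iterateFrobenius_def]
        rw [hmap, Matrix.mul_smul, h'.2 k, smul_smul]
      obtain ⟨⟨i, j⟩, hk⟩ := exists_weight_one _ hres hv hv0
      set ε := algebraMap K (AlgebraicClosure K) (((e : Kˣ) : K)) with hε
      have hε2 : ε * ε = 1 := by rw [hε, ← map_mul, ← pow_two, he2, map_one]
      have hinv : a⁻¹ * a = 1 := inv_mul_cancel₀ ha0
      have h1620 : a ^ 16 = 1 ∨ a ^ 20 = 1 := by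
        simp only [iterateFrobenius_def] at hk
        fin_cases i <;> fin_cases j <;>
          simp only [Fin.zero_eta, Fin.mk_one, Matrix.cons_val_zero, Matrix.cons_val_one, Fin.isValue] at hk
        · right
          calc a ^ 20 = (ε * (a * a ^ 3 ^ 2)) * (ε * (a * a ^ 3 ^ 2)) := by
                rw [show (ε * (a * a ^ 3 ^ 2)) * (ε * (a * a ^ 3 ^ 2)) = (ε * ε) * a ^ 20 by ring, hε2, one_mul]
            _ = 1 := by rw [hk, one_mul]
        · left
          have : a ^ 8 = ε := by
            calc a ^ 8 = a ^ 8 * (ε * (a * a⁻¹ ^ 3 ^ 2)) := by rw [hk, mul_one]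
              _ = ε * (a * a⁻¹) ^ 9 := by ring
              _ = ε := by rw [mul_inv_cancel₀ ha0, one_pow, mul_one]
          rw [show 16 = 8 + 8 from rfl, pow_add, this, hε2]
        · left
          have : a ^ 8 = ε := by
            have h1 : ε * a ^ 8 = 1 := by
              calc ε * a ^ 8 = ε * (a⁻¹ * a ^ 3 ^ 2) := by
                    rw [show a ^ 3 ^ 2 = a * a ^ 8 by ring, ← mul_assoc a⁻¹, hinv, one_mul]
                _ = 1 := hk
            calc a ^ 8 = ε * (ε * a ^ 8) := by rw [← mul_assoc, hε2, one_mul]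
              _ = ε := by rw [h1, mul_one]
          rw [show 16 = 8 + 8 from rfl, pow_add, this, hε2]
        · right
          have : a ^ 10 = ε := by
            calc a ^ 10 = a ^ 10 * (ε * (a⁻¹ * a⁻¹ ^ 3 ^ 2)) := by rw [hk, mul_one]
              _ = ε * (a⁻¹ * a) ^ 10 := by ring
              _ = ε := by rw [hinv, one_pow, mul_one]
          rw [show 20 = 10 + 10 from rfl, pow_add, this, hε2]
      have ha4 : a ^ 4 = 1 := by
        rcases haq with h | h
        · have h16 : Nat.gcd 16 (q - 1) = 2 := by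
            rw [Nat.gcd_rec, Nat.gcd_comm]
            have : (q - 1) % 16 = 2 ∨ (q - 1) % 16 = 10 := by omega
            rcases this with e' | e' <;> rw [e'] <;> rfl
          have h20 : Nat.gcd 20 (q - 1) = 2 := by
            rw [Nat.gcd_rec, Nat.gcd_comm]
            have : (q - 1) % 20 = 2 ∨ (q - 1) % 20 = 6 ∨ (q - 1) % 20 = 14 ∨ (q - 1) % 20 = 18 := by omega
            rcases this with e' | e' | e' | e' <;> rw [e'] <;> rfl
          have : a ^ 2 = 1 := by
            rcases h1620 with h' | h'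
            · exact h16 ▸ pow_gcd_eq_one.mpr ⟨h', h⟩
            · exact h20 ▸ pow_gcd_eq_one.mpr ⟨h', h⟩
          rw [show 4 = 2 * 2 from rfl, pow_mul, this, one_pow]
        · have h16 : Nat.gcd 16 (q + 1) = 4 := by
            rw [Nat.gcd_rec, Nat.gcd_comm]
            have : (q + 1) % 16 = 4 ∨ (q + 1) % 16 = 12 := by omega
            rcases this with e' | e' <;> rw [e'] <;> rfl
          have h20 : Nat.gcd 20 (q + 1) = 4 := by
            rw [Nat.gcd_rec, Nat.gcd_comm]
            have : (q + 1) % 20 = 4 ∨ (q + 1) % 20 = 8 ∨ (q + 1) % 20 = 12 ∨ (q + 1) % 20 = 16 := by omega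
            rcases this with e' | e' | e' | e' <;> rw [e'] <;> rfl
          rcases h1620 with h' | h'
          · exact h16 ▸ pow_gcd_eq_one.mpr ⟨h', h⟩
          · exact h20 ▸ pow_gcd_eq_one.mpr ⟨h', h⟩
      obtain ⟨δ, hδ, ha2⟩ : ∃ δ : K, δ * δ = 1 ∧ a ^ 2 = algebraMap K (AlgebraicClosure K) δ := by
        rcases mul_self_eq_one_iff.mp (show a ^ 2 * a ^ 2 = 1 by rw [← pow_add]; exact ha4) with h | h
        · exact ⟨1, one_mul _, by rw [h, map_one]⟩
        · exact ⟨-1, by ring, by rw [h, map_neg, map_one]⟩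
      rw [hM, _root_.smul_pow, he2, one_smul]
      exact hTpow 2 δ hδ (hpow 2 δ hδ ha2)
    have hsum : ∀ n, M ^ n = 1 → ∑ i ∈ range n, M ^ i = 0 := by
      intro n hn
      have h1 : (M - 1) * ∑ i ∈ range n, M ^ i = 0 := by rw [mul_geom_sum, hn, sub_self]
      ext i j
      have := congrFun (hwt (fun i => (∑ k ∈ range n, M ^ k) i j) (by
        funext i
        have := congrFun (congrFun h1 i) j
        rw [sub_mul, one_mul, Matrix.sub_apply, Matrix.zero_apply, sub_eq_zero, Matrix.mul_apply] at this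
        exact this)) i
      exact this
    rcases haq with h | h
    · obtain ⟨δ, hδ, had⟩ : ∃ δ : K, δ * δ = 1 ∧ a ^ ((q - 1) / 2) = algebraMap K (AlgebraicClosure K) δ := by
        have h' : a ^ ((q - 1) / 2) * a ^ ((q - 1) / 2) = 1 := by
          rw [← pow_add, show (q - 1) / 2 + (q - 1) / 2 = q - 1 by omega, h]
        rcases mul_self_eq_one_iff.mp h' with h | h
        · exact ⟨1, one_mul _, by rw [h, map_one]⟩
        · exact ⟨-1, by ring, by rw [h, map_neg, map_one]⟩
      have hn : M ^ (q - 1) = 1 := by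
        rw [hM, _root_.smul_pow, sign_pow_minus hK e, one_smul,
          show q - 1 = (q - 1) / 2 * 2 by omega, pow_mul, hTpow _ δ hδ (hpow _ δ hδ had), one_pow]
      exact ⟨q - 1, by simp [bounds], hn, hsum _ hn⟩
    · obtain ⟨δ, hδ, had⟩ : ∃ δ : K, δ * δ = 1 ∧ a ^ ((q + 1) / 2) = algebraMap K (AlgebraicClosure K) δ := by
        have h' : a ^ ((q + 1) / 2) * a ^ ((q + 1) / 2) = 1 := by
          rw [← pow_add, show (q + 1) / 2 + (q + 1) / 2 = q + 1 by omega, h]
        rcases mul_self_eq_one_iff.mp h' with h | h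
        · exact ⟨1, one_mul _, by rw [h, map_one]⟩
        · exact ⟨-1, by ring, by rw [h, map_neg, map_one]⟩
      have hn : M ^ ((q + 1) / 2) = 1 := by
        rw [hM, _root_.smul_pow, hTpow _ δ hδ (hpow _ δ hδ had),
          show (q + 1) / 2 = 2 * ((q + 1) / 4) by omega, pow_mul, he2, one_pow, one_smul]
      exact ⟨(q + 1) / 2, by simp [bounds], hn, hsum _ hn⟩

/-- Witnesses of the orders `6`, `q - 1`, `(q + 1) / 2`. -/
theorem exists_six : ∃ x : Sgn K × Matrix.SpecialLinearGroup (Fin 2) K, orderOf (preHom K x) = 6 := by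
  classical
  let e : Sgn K := ⟨-1, by rw [mem_rootsOfUnity]; ext; simp⟩
  refine ⟨(e, SLTwoElements.transv K), ?_⟩
  have hT : ∀ k : ℕ, tensHom K (SLTwoElements.transv K ^ k) (0, 0) (0, 0) = 1 ∧
      tensHom K (SLTwoElements.transv K ^ k) (0, 0) (1, 0) = (k : K) := fun k => by
    refine ⟨?_, ?_⟩ <;>
    · show ((SLTwoElements.transv K ^ k : Matrix.SpecialLinearGroup (Fin 2) K) : Matrix (Fin 2) (Fin 2) K) _ _ *
        tw K (((SLTwoElements.transv K ^ k : Matrix.SpecialLinearGroup (Fin 2) K) : Matrix (Fin 2) (Fin 2) K) _ _) = _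
      rw [SLTwoElements.transv_pow]
      simp
  have key : ∀ k, preHom K (e, SLTwoElements.transv K) ^ k = ((-1 : K) ^ k) • tensHom K (SLTwoElements.transv K ^ k) :=
    fun k => by
      rw [show preHom K (e, SLTwoElements.transv K) = (-1 : K) • tensHom K (SLTwoElements.transv K) from rfl,
        _root_.smul_pow, map_pow]
  have hp : ∀ k, preHom K (e, SLTwoElements.transv K) ^ k = 1 → 2 ∣ k ∧ 3 ∣ k := by
    intro k hk
    rw [key] at hk
    have h1 := congrFun (congrFun hk (0, 0)) (0, 0)
    have h2 := congrFun (congrFun hk (0, 0)) (1, 0)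
    rw [Matrix.smul_apply, (hT k).1, smul_eq_mul, mul_one, Matrix.one_apply_eq] at h1
    rw [Matrix.smul_apply, (hT k).2, Matrix.one_apply_ne (by simp), h1, one_smul] at h2
    refine ⟨?_, (CharP.cast_eq_zero_iff K 3 k).mp h2⟩
    rcases Nat.even_or_odd k with h | h
    · exact h.two_dvd
    · rw [h.neg_one_pow] at h1
      exfalso
      have : (2 : K) = 0 := by linear_combination (-1 : K) * h1
      rw [show (2 : K) = ((2 : ℕ) : K) by norm_num, CharP.cast_eq_zero_iff K 3] at this
      omega
  refine Nat.dvd_antisymm (orderOf_dvd_of_pow_eq_one ?_) ?_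
  · rw [key, show SLTwoElements.transv K ^ 6 = 1 by
      refine Subtype.ext ?_
      rw [SLTwoElements.transv_pow, Matrix.SpecialLinearGroup.coe_one, Matrix.one_fin_two,
        show ((6 : ℕ) : K) = 0 by rw [CharP.cast_eq_zero_iff K 3]; norm_num], map_one]
    norm_num
  · obtain ⟨h2, h3⟩ := hp _ (pow_orderOf_eq_one _)
    exact Nat.Coprime.mul_dvd_of_dvd_of_dvd (by norm_num) h2 h3

theorem exists_minus : ∃ x : Sgn K × Matrix.SpecialLinearGroup (Fin 2) K,
    orderOf (preHom K x) = Fintype.card K - 1 := by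
  classical
  obtain ⟨h3q, h8, -, -⟩ := card_mod hK
  set q := Fintype.card K
  obtain ⟨ζ, hζ⟩ := IsCyclic.exists_ofOrder_eq_natCard (α := Kˣ)
  rw [Nat.card_units, Nat.card_eq_fintype_card] at hζ
  let e : Sgn K := ⟨-1, by rw [mem_rootsOfUnity]; ext; simp⟩
  refine ⟨(e, SLTwoElements.diag K ζ), ?_⟩
  have hT : ∀ k i j, (preHom K (e, SLTwoElements.diag K ζ) ^ k) (i, j) (i, j) =
      (-1 : K) ^ k * ((![(ζ : K), (ζ : K)⁻¹] i) ^ k * tw K ((![(ζ : K), (ζ : K)⁻¹] j) ^ k)) := fun k i j => by
    rw [show preHom K (e, SLTwoElements.diag K ζ) = (-1 : K) • tensHom K (SLTwoElements.diag K ζ) from rfl,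
      _root_.smul_pow, ← map_pow, Matrix.smul_apply, smul_eq_mul]
    congr 1
    show ((SLTwoElements.diag K ζ ^ k : Matrix.SpecialLinearGroup (Fin 2) K) : Matrix (Fin 2) (Fin 2) K) i i *
      tw K (((SLTwoElements.diag K ζ ^ k : Matrix.SpecialLinearGroup (Fin 2) K) : Matrix (Fin 2) (Fin 2) K) j j) = _
    rw [Matrix.SpecialLinearGroup.coe_pow]
    show (Matrix.diagonal _ ^ k) i i * tw K ((Matrix.diagonal _ ^ k) j j) = _
    rw [Matrix.diagonal_pow, Matrix.diagonal_apply_eq, Matrix.diagonal_apply_eq]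
    rfl
  refine Nat.dvd_antisymm ?_ ?_
  · refine orderOf_dvd_of_pow_eq_one ?_
    obtain ⟨n, hn, h1, -⟩ := norm_cases hK e (SLTwoElements.diag K ζ)
    rw [show preHom K (e, SLTwoElements.diag K ζ) = (-1 : K) • tensHom K (SLTwoElements.diag K ζ) from rfl,
      _root_.smul_pow, ← map_pow, show SLTwoElements.diag K ζ ^ (q - 1) = 1 by
        refine Subtype.ext ?_
        rw [Matrix.SpecialLinearGroup.coe_pow, Matrix.SpecialLinearGroup.coe_one]
        show Matrix.diagonal _ ^ (q - 1) = 1
        rw [Matrix.diagonal_pow, ← Matrix.diagonal_one]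
        congr 1
        funext i
        fin_cases i <;> simp [FiniteField.pow_card_sub_one_eq_one _ (Units.ne_zero ζ), q], map_one,
      Even.neg_one_pow ⟨(q - 1) / 2, by omega⟩, one_smul]
  · set k := orderOf (preHom K (e, SLTwoElements.diag K ζ))
    have h1 := hT k 0 0
    have h2 := hT k 0 1
    rw [pow_orderOf_eq_one, Matrix.one_apply_eq] at h1 h2
    simp only [Matrix.cons_val_zero, Matrix.cons_val_one, Fin.isValue, tw_apply] at h1 h2
    rw [inv_pow] at h2
    set z := (ζ : K) ^ k
    have hz0 : z ≠ 0 := pow_ne_zero _ (Units.ne_zero ζ)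
    set s := (-1 : K) ^ k
    have hs : s * s = 1 := by rw [← pow_add, ← two_mul, pow_mul]; simp
    have h2' : z ^ 9 = s * z := by
      calc z ^ 9 = z ^ 9 * (s * (z * (z⁻¹) ^ 9)) := by rw [← h2, mul_one]
        _ = s * z * (z * z⁻¹) ^ 9 := by ring
        _ = s * z := by rw [mul_inv_cancel₀ hz0, one_pow, mul_one]
    have hz2 : z * z = 1 := by
      rw [h2', ← mul_assoc z, mul_comm z s, ← mul_assoc, ← mul_assoc, hs, one_mul] at h1
      exact h1.symm
    have hd : q - 1 ∣ k * 2 := by
      rw [← hζ]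
      exact orderOf_dvd_of_pow_eq_one (Units.ext (by
        rw [Units.val_pow_eq_pow_val, Units.val_one, pow_mul, pow_two]; exact hz2))
    have hs1 : s = 1 := by
      have : z ^ 9 = z := by rw [show z ^ 9 = (z * z) ^ 4 * z by ring, hz2, one_pow, one_mul]
      rw [this] at h2'
      exact mul_right_cancel₀ hz0 (by rw [one_mul]; exact h2'.symm)
    have heven : 2 ∣ k := by
      rcases Nat.even_or_odd k with h | h
      · exact h.two_dvd
      · exfalso
        simp only [s, h.neg_one_pow] at hs1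
        have : (2 : K) = 0 := by linear_combination (-1 : K) * hs1
        rw [show (2 : K) = ((2 : ℕ) : K) by norm_num, CharP.cast_eq_zero_iff K 3] at this
        omega
    obtain ⟨j, hj⟩ : ∃ j, k = 2 * j := heven
    rw [hj] at hd ⊢
    obtain ⟨h, hh⟩ : ∃ h, q - 1 = 2 * h := ⟨(q - 1) / 2, by omega⟩
    rw [hh, mul_comm (2 * j) 2] at hd
    rw [hh]
    refine Nat.mul_dvd_mul_left 2 ?_
    exact (Nat.Coprime.dvd_of_dvd_mul_left (Nat.coprime_two_right.mpr
      (Nat.odd_iff.mpr (by omega : h % 2 = 1))) (Nat.dvd_of_mul_dvd_mul_left (by norm_num) hd))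

theorem exists_plus (hm : 1 ≤ m) : ∃ x : Sgn K × Matrix.SpecialLinearGroup (Fin 2) K,
    orderOf (preHom K x) = (Fintype.card K + 1) / 2 := by
  classical
  obtain ⟨h3q, h8, -, -⟩ := card_mod hK
  set q := Fintype.card K
  obtain ⟨g, hg⟩ := SLTwoElements.exists_plus K 3
  refine ⟨(1, g), Nat.dvd_antisymm ?_ ?_⟩
  · obtain ⟨n, hn, h1, -⟩ := norm_cases hK 1 g
    refine orderOf_dvd_of_pow_eq_one ?_
    rcases sl2_cases g with ⟨δ, hδ, hu⟩ | ⟨a, ha0, hne, -, haq, -, hpow⟩
    · exfalso
      have hδ2 : δ * δ = 1 := by rcases hδ with rfl | rfl <;> ring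
      have h6 : g ^ 6 = 1 := Subtype.ext (by
        rw [Matrix.SpecialLinearGroup.coe_pow, Matrix.SpecialLinearGroup.coe_one, show 6 = 3 * 2 from rfl, pow_mul,
          pow_char_of_unipotent 3 _ δ hu, _root_.smul_pow, one_pow, ← pow_mul, show δ ^ (3 * 2) = (δ * δ) ^ 3 by ring,
          hδ2, one_pow, one_smul])
      have h7 : q + 1 ≤ 6 := Nat.le_of_dvd (by norm_num) (hg 6 h6)
      have : 27 ≤ 3 ^ (2 * m + 1) := by
        calc 27 = 3 ^ 3 := rfl
          _ ≤ _ := Nat.pow_le_pow_right (by norm_num) (by omega)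
      omega
    · have hfin : ∀ N, a ^ N = 1 → q + 1 ∣ N := fun N hN => hg N (Subtype.ext (by
        rw [Matrix.SpecialLinearGroup.coe_pow, Matrix.SpecialLinearGroup.coe_one,
          hpow N 1 (one_mul 1) (by rw [hN, map_one]), one_smul]))
      rcases haq with h | h
      · exfalso
        have := Nat.le_of_dvd (by omega) (hfin _ h)
        omega
      · have h' : a ^ ((q + 1) / 2) * a ^ ((q + 1) / 2) = 1 := by
          rw [← pow_add, show (q + 1) / 2 + (q + 1) / 2 = q + 1 by omega, h]
        obtain ⟨δ, hδ, had⟩ : ∃ δ : K, δ * δ = 1 ∧ a ^ ((q + 1) / 2) = algebraMap K (AlgebraicClosure K) δ := by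
          rcases mul_self_eq_one_iff.mp h' with h | h
          · exact ⟨1, one_mul _, by rw [h, map_one]⟩
          · exact ⟨-1, by ring, by rw [h, map_neg, map_one]⟩
        rw [show preHom K (1, g) = (1 : K) • tensHom K g from rfl, one_smul, ← map_pow]
        show ((g ^ _ : Matrix.SpecialLinearGroup (Fin 2) K) : Matrix (Fin 2) (Fin 2) K) ⊗ₖ _ = _
        rw [Matrix.SpecialLinearGroup.coe_pow, hpow _ δ hδ had]
        have hmap : (δ • (1 : Matrix (Fin 2) (Fin 2) K)).map (tw K) = δ • 1 := by
          have hd : tw K δ = δ := by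
            rcases mul_self_eq_one_iff.mp hδ with rfl | rfl <;> simp
          ext i j
          simp [Matrix.one_apply, apply_ite (tw K), hd]
        rw [hmap, Matrix.smul_kronecker, Matrix.kronecker_smul, smul_smul, hδ, one_smul, Matrix.one_kronecker_one]
  · have h := pow_orderOf_eq_one (preHom K (1, g))
    generalize orderOf (preHom K (1, g)) = k at h ⊢
    rw [show preHom K (1, g) = (1 : K) • tensHom K g from rfl, one_smul, ← map_pow] at h
    set A := ((g ^ k : Matrix.SpecialLinearGroup (Fin 2) K) : Matrix (Fin 2) (Fin 2) K) with hA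
    have hh : A ⊗ₖ A.map (tw K) = 1 := h
    have hent : ∀ a b c d, A a b * (A c d) ^ 9 = if a = b ∧ c = d then 1 else 0 := fun a b c d => by
      have := congrFun (congrFun hh (a, c)) (b, d)
      rw [Matrix.kroneckerMap_apply, Matrix.map_apply, tw_apply, Matrix.one_apply] at this
      simpa [Prod.ext_iff] using this
    have h00 := hent 0 0 0 0
    simp only [and_self, if_true] at h00
    have hne : A 0 0 ≠ 0 := fun e0 => by rw [e0, zero_mul] at h00; exact zero_ne_one h00
    have h01 : A 0 1 = 0 := by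
      have := hent 0 1 0 0
      simp at this
      exact this.resolve_right (fun e0 => hne e0)
    have h10 : A 1 0 = 0 := by
      have := hent 1 0 0 0
      simp at this
      exact this.resolve_right (fun e0 => hne e0)
    have h11 : A 1 1 = A 0 0 := by
      have h1 := hent 1 1 0 0
      simp only [and_self, if_true] at h1
      exact mul_right_cancel₀ (pow_ne_zero 9 hne) (h1.trans h00.symm)
    have hd : A 0 0 * A 0 0 = 1 := by
      have := (g ^ k).2
      rw [← hA, Matrix.det_fin_two, h01, h11, zero_mul, sub_zero] at this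
      exact this
    have h2k : g ^ (k + k) = 1 := by
      refine Subtype.ext ?_
      rw [pow_add, Matrix.SpecialLinearGroup.coe_mul, Matrix.SpecialLinearGroup.coe_one, ← hA]
      ext i j
      fin_cases i <;> fin_cases j <;> simp [Matrix.mul_apply, Fin.sum_univ_two, h01, h10, h11, hd]
    have := hg _ h2k
    rw [← two_mul, show q + 1 = 2 * ((q + 1) / 2) by omega] at this
    exact Nat.dvd_of_mul_dvd_mul_left (by norm_num) this

end Facts

end CfsgLib.Recognition.ReeCube
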